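import Cfsg.Agent.Lib.ChevAut.Sylow

/-!
A unipotent upper element of a Chevalley group raises heights, so the exponent of a Sylow subgroup
in the defining characteristic is bounded by the spread of the heights.
-/

set_option autoImplicit false
set_option linter.unusedSectionVars false

namespace CfsgLib.ChevTwoExp

open Cfsg.Lie CfsgLib.Chev

variable {D : ChevalleyDatum} {T : Tabs} {F : Type*} [Field F]

/-- height of a weight -/
def htSum {n : ℕ} (v : Fin n → ℤ) : ℤ := ∑ j, v j

theorem htSum_add {n : ℕ} (v w : Fin n → ℤ) : htSum (v + w) = htSum v + htSum w := by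
  simp [htSum, Finset.sum_add_distrib]

theorem htSum_smul {n : ℕ} (c : ℤ) (v : Fin n → ℤ) : htSum (c • v) = c * htSum v := by
  simp [htSum, Finset.mul_sum]

/-- powers of a matrix strictly raising a grading -/
theorem pow_sub_one_eq_zero {ι : Type*} [Fintype ι] [DecidableEq ι] (w : ι → ℤ) {N : ℕ}
    (hw : ∀ x, -(N : ℤ) ≤ w x ∧ w x ≤ N) {M : Matrix ι ι F}
    (hM : ∀ x y, M x y ≠ 0 → w y + 1 ≤ w x) : M ^ (2 * N + 1) = 0 := by
  have key : ∀ k : ℕ, ∀ x y, (M ^ k) x y ≠ 0 → w y + k ≤ w x := by
    intro k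
    induction k with
    | zero =>
        intro x y h
        rw [pow_zero, Matrix.one_apply] at h
        split at h
        · subst_vars; simp
        · exact absurd rfl h
    | succ k ih =>
        intro x y h
        rw [pow_succ, Matrix.mul_apply] at h
        obtain ⟨z, -, hz⟩ := Finset.exists_ne_zero_of_sum_ne_zero h
        have h1 := ih x z (left_ne_zero_of_mul hz)
        have h2 := hM z y (right_ne_zero_of_mul hz)
        push_cast
        omega
  ext x y
  by_contra h
  have h1 := key _ x y h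
  have h2 := hw x
  have h3 := hw y
  push_cast at h1
  omega

/-- exponent of the `p`-elements of a Chevalley group in its own characteristic -/
theorem orderOf_le [Finite F] (hc : Checked D T) (hcomm : CommOne D T) (p : ℕ) [Fact p.Prime]
    [CharP F p] {N k : ℕ} (hk : 2 * N + 1 ≤ p ^ k)
    (hpos : ∀ r, r < D.nroots → D.nroots / 2 ≤ r → 1 ≤ htSum (rv D T r))
    (hbd : ∀ x : D.Idx, -(N : ℤ) ≤ htSum (wI D T x) ∧ htSum (wI D T x) ≤ N)
    {g : GL D.Idx F} (hg : g ∈ D.group F) (hgp : ∃ j : ℕ, orderOf g = p ^ j) :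
    orderOf g ≤ p ^ k := by
  classical
  obtain ⟨P, hP⟩ := ChevAut.sylow_pos hc hcomm (F := F) p
  set g' : ↥(D.group F) := ⟨g, hg⟩ with hg'
  have hpg : IsPGroup p (Subgroup.zpowers g') := by
    obtain ⟨j, hj⟩ := hgp
    refine IsPGroup.of_card (n := j) ?_
    rw [Nat.card_zpowers, Subgroup.orderOf_mk, hj]
  obtain ⟨Q, hQ⟩ := hpg.exists_le_sylow
  obtain ⟨a, ha⟩ := MulAction.exists_smul_eq (↥(D.group F)) Q P
  have hmem : a * g' * a⁻¹ ∈ (P : Subgroup ↥(D.group F)) := by
    rw [← ha, Sylow.coe_subgroup_smul]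
    exact ⟨g', hQ (Subgroup.mem_zpowers g'), rfl⟩
  rw [hP, Subgroup.mem_subgroupOf] at hmem
  set u : GL D.Idx F := (a : GL D.Idx F) * g * (a : GL D.Idx F)⁻¹ with hu
  have huU : u ∈ ChevAut.Up D F := hmem
  have hrais : Raises D T htSum 1 ((u : GL D.Idx F) : Matrix D.Idx D.Idx F) :=
    raises_uGen hc htSum_add htSum_smul zero_le_one hpos huU
  set M : Matrix D.Idx D.Idx F := (u : Matrix D.Idx D.Idx F) - 1 with hM
  have hnil : M ^ (2 * N + 1) = 0 := by
    refine pow_sub_one_eq_zero (fun x => htSum (wI D T x)) hbd fun x y h => hrais x y ?_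
    intro he
    exact h (by rw [hM, Matrix.sub_apply, he, sub_self])
  have hzero : M ^ (p ^ k) = 0 := pow_eq_zero_of_le hk hnil
  have hpow : (u : Matrix D.Idx D.Idx F) ^ (p ^ k) = 1 := by
    rcases isEmpty_or_nonempty D.Idx with hI | hI
    · ext x; exact isEmptyElim x
    have h := sub_pow_char_pow_of_commute p k (Commute.one_right (u : Matrix D.Idx D.Idx F))
    rw [← hM, hzero, one_pow] at h
    exact sub_eq_zero.mp h.symm
  have hu1 : u ^ (p ^ k) = 1 := Units.ext (by rw [Units.val_pow_eq_pow_val, hpow, Units.val_one])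
  have hord : orderOf u = orderOf g :=
    orderOf_injective (MulAut.conj (a : GL D.Idx F)).toMonoidHom (MulAut.conj _).injective g
  rw [← hord]
  exact orderOf_le_of_pow_eq_one (pow_pos (Fact.out : p.Prime).pos k) hu1

end CfsgLib.ChevTwoExp
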